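import Cfsg.Agent.H226.Tall.Defs
import Cfsg.Agent.H235.StdTwo
import Cfsg.Agent.H332.EB.Fi23
import Cfsg.Agent.H237.LongKill
import Cfsg.Agent.OddHalf.D8.Fi22.KAll

/-!
# S2927, rows `Fi₂₃` (helper30)
-/

set_option autoImplicit false

universe u v

namespace Cfsg.Agent.H30.Tall.FiThree

open Subgroup Cfsg Cfsg.Agent.H226.Tall
open Cfsg.Agent.H239.CharPLocal (CP)
open Cfsg.Agent.OddHalf.D8.Fi22

/-- a `2`-element that centralises a Sylow `2`-subgroup is in it -/
theorem mem_sylow {K : Type v} [Group K] [Finite K] (P : Sylow 2 K) {z : K} (hz : orderOf z = 2)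
    (hc : (P : Subgroup K) ≤ centralizer ({z} : Set K)) : z ∈ (P : Subgroup K) := by
  have hfact : Fact (Nat.Prime 2) := ⟨Nat.prime_two⟩
  have h1 : zpowers z ≤ P := by
    refine Omega.Quasithin.EvenOf.le_sylow_of_normalizes P
      (IsPGroup.of_card (n := 1) (by rw [Nat.card_zpowers, hz, pow_one])) ?_
    intro s hs x hx
    obtain ⟨k, rfl⟩ := mem_zpowers_iff.1 hx
    have h2 : Commute s z := mem_centralizer_singleton_iff.1 (hc hs)
    rw [(h2.zpow_right k).eq, mul_inv_cancel_right]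
    exact hx
  exact h1 (mem_zpowers z)

theorem pgroup_cent_conj {K : Type v} [Group K] {z : K} (g : K) (h : IsPGroup 2 ↥(centralizer ({z} : Set K))) :
    IsPGroup 2 ↥(centralizer ({g * z * g⁻¹} : Set K)) := by
  rintro ⟨x, hx⟩
  have hx' : g⁻¹ * x * g ∈ centralizer ({z} : Set K) := by
    rw [mem_centralizer_singleton_iff] at hx ⊢
    calc g⁻¹ * x * g * z = g⁻¹ * (x * (g * z * g⁻¹)) * g := by group
      _ = g⁻¹ * (g * z * g⁻¹ * x) * g := by rw [hx]
      _ = z * (g⁻¹ * x * g) := by group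
  obtain ⟨k, hk⟩ := h ⟨_, hx'⟩
  refine ⟨k, Subtype.ext ?_⟩
  have h1 : (g⁻¹ * x * g) ^ 2 ^ k = 1 := congrArg Subtype.val hk
  show x ^ 2 ^ k = 1
  have h2 : (g⁻¹ * x * g) ^ 2 ^ k = g⁻¹ * x ^ 2 ^ k * g := by
    have := conj_pow (i := 2 ^ k) (a := g⁻¹) (b := x)
    rwa [inv_inv] at this
  rw [h2] at h1
  calc x ^ 2 ^ k = g * (g⁻¹ * x ^ 2 ^ k * g) * g⁻¹ := by group
    _ = 1 := by rw [h1]; group

/-! ### `Fi₂₂` -/

theorem rowTwo_of_all {K : Type v} [Group K] {T : Set K} {d d' : K} {R : Subgroup K} (h : All K T d d' R) :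
    RowTwo K := by
  have hfin : Finite K := Sheet22.finite h.facts
  have hfact : Fact (Nat.Prime 2) := ⟨Nat.prime_two⟩
  rintro z ⟨hz, P, hP⟩ hC
  -- a Sylow subgroup in `C(d d')`
  obtain ⟨S, hS⟩ := Omega.Quasithin.EvenOf.exists_sylow h.facts.odd
  have hS2 : (S : Subgroup K) ≤ centralizer ({d * d'} : Set K) := fun x hx =>
    mem_centralizer_singleton_iff.2 (hS x hx)
  obtain ⟨g, hg⟩ := MulAction.exists_smul_eq K P S
  have hgS : (S : Subgroup K) ≤ centralizer ({g * z * g⁻¹} : Set K) := by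
    intro s hs
    rw [← hg] at hs
    obtain ⟨x, hx, hxs⟩ := hs
    have h2 := hP hx
    rw [mem_centralizer_singleton_iff] at h2 ⊢
    have hxs' : g * x * g⁻¹ = s := hxs
    rw [← hxs']
    calc g * x * g⁻¹ * (g * z * g⁻¹) = g * (x * z) * g⁻¹ := by group
      _ = g * (z * x) * g⁻¹ := by rw [h2]
      _ = g * z * g⁻¹ * (g * x * g⁻¹) := by group
  have hz2 : orderOf (g * z * g⁻¹) = 2 := by
    rw [← hz]
    exact (orderOf_injective (MulAut.conj g).toMonoidHom (MulAut.conj g).injective z)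
  have hmem := mem_sylow S hz2 hgS
  have hC' := pgroup_cent_conj g hC
  rcases h.facts.center_S S hS2 _ hmem fun x hx => (mem_centralizer_singleton_iff.1 (hgS hx)).symm with h3 | h3
  · rw [h3, orderOf_one] at hz2
    omega
  rw [h3] at hC'
  -- `C(d, d')` is perfect
  have hUle : centralizer ({d, d'} : Set K) ≤ centralizer ({d * d'} : Set K) := by
    intro x hx
    obtain ⟨h1, h2⟩ := Sheet22.mem_P.1 hx
    rw [mem_centralizer_singleton_iff]
    calc x * (d * d') = x * d * d' := by group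
      _ = d * (x * d') := by rw [h1]; group
      _ = d * d' * x := by rw [h2]; group
  have hU2 : IsPGroup 2 ↥(centralizer ({d, d'} : Set K)) := hC'.to_le hUle
  have hsol : Group.IsNilpotent ↥(centralizer ({d, d'} : Set K)) := hU2.isNilpotent
  have hd : d ∈ centralizer ({d, d'} : Set K) := h.facts.R_le h.facts.d_mem
  have hnt : Nontrivial ↥(centralizer ({d, d'} : Set K)) :=
    ⟨⟨d, hd⟩, 1, fun h0 => h.facts.d_ne (congrArg Subtype.val h0)⟩
  have h7 := Group.IsSolvable.commutator_lt_top_of_nontrivial ↥(centralizer ({d, d'} : Set K))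
  rw [h.facts.perfect] at h7
  exact lt_irrefl _ h7

theorem rowTwo_fi22 {K : Type v} [Group K] (h : Spor.IsoFi22 K) : RowTwo K := by
  obtain ⟨T, d, d', R, h1⟩ := exists_all h
  exact rowTwo_of_all h1

/-! ### a quotient by a central group of exponent 2 -/

/-- if `C_K(z)` is a 2-group then `C(z̄)` is a 2-group in `K / Z`, `Z` central of exponent 2 -/
theorem pgroup_quot {H : Type v} [Group H] {Z : Subgroup H} [Z.Normal] (hZc : Z ≤ center H) (hZ2 : ∀ x ∈ Z, x * x = 1)
    {z : H} (hC : IsPGroup 2 ↥(centralizer ({z} : Set H))) :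
    IsPGroup 2 ↥(centralizer ({(QuotientGroup.mk' Z) z} : Set (H ⧸ Z))) := by
  rintro ⟨c, hc⟩
  obtain ⟨h, rfl⟩ := QuotientGroup.mk'_surjective Z c
  rw [mem_centralizer_singleton_iff, ← map_mul, ← map_mul] at hc
  -- `h z = z h ζ`
  have h1 : (z * h)⁻¹ * (h * z) ∈ Z := QuotientGroup.eq.1 hc.symm
  obtain ⟨ζ, hζ⟩ : ∃ ζ, ζ = (z * h)⁻¹ * (h * z) := ⟨_, rfl⟩
  rw [← hζ] at h1
  have h2 : h * z = z * h * ζ := by rw [hζ]; group
  have h3 : ∀ x, x * ζ = ζ * x := fun x => (mem_center_iff.1 (hZc h1) x)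
  have h4 : h * h * z = z * (h * h) := by
    calc h * h * z = h * (h * z) := by group
      _ = h * (z * h * ζ) := by rw [h2]
      _ = (h * z) * h * ζ := by group
      _ = z * h * ζ * h * ζ := by rw [h2]
      _ = z * h * (h * ζ) * ζ := by rw [h3 h]; group
      _ = z * (h * h) * (ζ * ζ) := by group
      _ = z * (h * h) := by rw [hZ2 _ h1, mul_one]
  obtain ⟨k, hk⟩ := hC ⟨h * h, mem_centralizer_singleton_iff.2 h4⟩
  refine ⟨k + 1, Subtype.ext ?_⟩
  have h5 : (h * h) ^ 2 ^ k = 1 := congrArg Subtype.val hk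
  show (QuotientGroup.mk' Z h) ^ 2 ^ (k + 1) = 1
  rw [← map_pow, pow_succ', pow_mul, pow_two, h5, map_one]

/-! ### `Fi₂₃` -/

section Fi23

open Cfsg.Agent.Fischer.Fi23Z Cfsg.Agent.Fischer Cfsg.Agent.Fischer.Fi23Simple Cfsg.Agent.Fischer.Fi23Class
open Cfsg.Agent.KFacts.FiTTh.Cent
open Cfsg.Spor Cfsg.Spor.Fi23

theorem exists_le {K : Type v} [Group K] [Finite K] (P S : Sylow 2 K) {z : K}
    (hS : (S : Subgroup K) ≤ centralizer ({z} : Set K)) : ∃ g : K, (P : Subgroup K) ≤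
      centralizer ({g * z * g⁻¹} : Set K) := by
  have hfact : Fact (Nat.Prime 2) := ⟨Nat.prime_two⟩
  exact H237.LongKill.exists_conj_cent hS P.isPGroup'

theorem rowTwo_model : RowTwo Fi23 := by
  have hfin : Finite Spor.Fi23 := Nat.finite_of_card_ne_zero (by rw [card_Fi23]; norm_num)
  have hfact : Fact (Nat.Prime 2) := ⟨Nat.prime_two⟩
  have hcard : Nat.card ↥(centralizer ({z0} : Set Fi23)) = 2 * 64561751654400 := by
    rw [← K_eq]
    exact card_K
  have hodd : Odd (centralizer ({z0} : Set Fi23)).index := by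
    have h1 := (centralizer ({z0} : Set Fi23)).card_mul_index
    rw [hcard, card_Fi23] at h1
    have h2 : (centralizer ({z0} : Set Fi23)).index = 31671 := by omega
    rw [h2]
    decide
  obtain ⟨S, hS⟩ := Omega.Quasithin.EvenOf.exists_sylow hodd
  have hS2 : (S : Subgroup Fi23) ≤ centralizer ({z0} : Set Fi23) := fun x hx =>
    mem_centralizer_singleton_iff.2 (hS x hx)
  rintro z ⟨hz, P, hP⟩ hC
  -- move `P` into `S`
  obtain ⟨g, hg⟩ := H237.LongKill.exists_conj_cent hP (S := (S : Subgroup Fi23)) S.isPGroup'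
  have hC' := pgroup_cent_conj g hC
  have hz2 : orderOf (g * z * g⁻¹) = 2 := by
    rw [← hz]
    exact (orderOf_injective (MulAut.conj g).toMonoidHom (MulAut.conj g).injective z)
  obtain ⟨y, hy⟩ : ∃ y, y = g * z * g⁻¹ := ⟨_, rfl⟩
  rw [← hy] at hg hC' hz2
  have hyS := mem_sylow S hz2 hg
  -- the double cover
  obtain ⟨hc2, ⟨e⟩, -⟩ := KFacts.FiTTh.Quasi.cover
  rw [← K_eq] at hS2
  have hyK : y ∈ K := hS2 hyS
  have hCK : IsPGroup 2 ↥(centralizer ({(⟨y, hyK⟩ : ↥K)} : Set ↥K)) := by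
    rintro ⟨x, hx⟩
    have hx' : (x : Fi23) ∈ centralizer ({y} : Set Fi23) := by
      rw [mem_centralizer_singleton_iff] at hx ⊢
      exact congrArg Subtype.val hx
    obtain ⟨k, hk⟩ := hC' ⟨_, hx'⟩
    have h9 : ((x : ↥K) : Fi23) ^ 2 ^ k = 1 := congrArg Subtype.val hk
    exact ⟨k, Subtype.ext (Subtype.ext h9)⟩
  have hZ2 : ∀ x ∈ center ↥K, x * x = 1 := by
    intro x hx
    have h1 : (⟨x, hx⟩ : ↥(center ↥K)) ^ 2 = 1 := by
      rw [← hc2]
      exact pow_card_eq_one'
    rw [← pow_two]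
    exact congrArg Subtype.val h1
  have hq := pgroup_quot le_rfl hZ2 hCK
  -- `RowTwo` of `Fi₂₂`
  have hrow : RowTwo (↥K ⧸ center ↥K) := rowTwo_fi22 ⟨e⟩
  set yq : ↥K ⧸ center ↥K := QuotientGroup.mk' (center ↥K) ⟨y, hyK⟩ with hyq
  have hfinq : Finite (↥K ⧸ center ↥K) := inferInstance
  by_cases h1 : yq = 1
  · -- `y` is central in `K`
    have h2 : (⟨y, hyK⟩ : ↥K) ∈ center ↥K := (QuotientGroup.eq_one_iff _).1 h1
    have h3 : (K : Subgroup Fi23) ≤ centralizer ({y} : Set Fi23) := by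
      intro k hk
      rw [mem_centralizer_singleton_iff]
      exact congrArg Subtype.val (mem_center_iff.1 h2 ⟨k, hk⟩)
    obtain ⟨m, hm⟩ := (IsPGroup.iff_card.1 (hC'.to_le h3))
    rw [card_K] at hm
    have h4 : 3 ∣ 2 ^ m := by
      rw [← hm]
      norm_num
    have h5 := (Nat.Prime.dvd_of_dvd_pow Nat.prime_three h4)
    omega
  · have ho : orderOf yq = 2 := by
      refine orderOf_eq_prime ?_ h1
      rw [hyq, ← map_pow]
      have : (⟨y, hyK⟩ : ↥K) ^ 2 = 1 := Subtype.ext (by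
        show y ^ 2 = 1
        rw [← hz2]
        exact pow_orderOf_eq_one y)
      rw [this, map_one]
    refine hrow yq ⟨ho, ?_⟩ hq
    -- the image of `S`
    let S1 : Sylow 2 ↥K := S.subtype hS2
    let S2 : Sylow 2 (↥K ⧸ center ↥K) := S1.mapSurjective (QuotientGroup.mk'_surjective _)
    refine ⟨S2, ?_⟩
    rintro _ ⟨s, hs, rfl⟩
    rw [mem_centralizer_singleton_iff]
    have h2 : (s : Fi23) ∈ (S : Subgroup Fi23) := hs
    have h3 := mem_centralizer_singleton_iff.1 (hg h2)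
    show QuotientGroup.mk' (center ↥K) s * QuotientGroup.mk' (center ↥K) ⟨y, hyK⟩ =
      QuotientGroup.mk' (center ↥K) ⟨y, hyK⟩ * QuotientGroup.mk' (center ↥K) s
    rw [← map_mul, ← map_mul]
    exact congrArg _ (Subtype.ext h3)

theorem rowTwo_congr {G : Type u} {H : Type v} [Group G] [Group H] (e : G ≃* H) (h : RowTwo G) : RowTwo H := by
  rintro z ⟨hz, P, hP⟩ hC
  refine h (e.symm z) ⟨?_, P.comapOfInjective e.toMonoidHom e.injective ?_, ?_⟩ ?_
  · rw [← hz]
    exact orderOf_injective e.symm.toMonoidHom e.symm.injective z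
  · intro x _
    exact ⟨e.symm x, e.apply_symm_apply x⟩
  · intro x hx
    have h1 : e x ∈ (P : Subgroup H) := hx
    have h2 := mem_centralizer_singleton_iff.1 (hP h1)
    rw [mem_centralizer_singleton_iff]
    apply e.injective
    rw [map_mul, map_mul, e.apply_symm_apply, h2]
  · rintro ⟨x, hx⟩
    have h1 : e x ∈ centralizer ({z} : Set H) := by
      rw [mem_centralizer_singleton_iff] at hx ⊢
      have := congrArg e hx
      rwa [map_mul, map_mul, e.apply_symm_apply] at this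
    obtain ⟨k, hk⟩ := hC ⟨_, h1⟩
    have h2 : (e x) ^ 2 ^ k = 1 := congrArg Subtype.val hk
    refine ⟨k, Subtype.ext ?_⟩
    apply e.injective
    show e (x ^ 2 ^ k) = e 1
    rw [map_pow, h2, map_one]

/-- **RowTwo of `Fi₂₃`** -/
theorem rowTwo_fi23 {K : Type u} [Group K] (h : Spor.IsoFi23 K) : RowTwo K := by
  obtain ⟨e⟩ := h
  exact rowTwo_congr e.symm rowTwo_model

end Fi23

/-! ### No1 -/

/-- if every automorphism of `K = F*(G)` is inner then `G = K` -/
theorem eq_top_of_inner {G : Type u} [Group G] {K : Subgroup G} (hn : K.Normal) (hc : centralizer (K : Set G) = ⊥)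
    (hinn : ∀ α : ↥K ≃* ↥K, ∃ s : ↥K, ∀ x : ↥K, α x = s * x * s⁻¹) : K = ⊤ := by
  rw [eq_top_iff]
  intro g _
  obtain ⟨s, hs⟩ := hinn (MulAut.conjNormal g)
  have h1 : (s : G)⁻¹ * g ∈ centralizer (K : Set G) := by
    rw [mem_centralizer_iff]
    intro x hx
    have h2 := congrArg Subtype.val (hs ⟨x, hx⟩)
    rw [MulAut.conjNormal_apply] at h2
    have h3 : g * x * g⁻¹ = (s : G) * x * (s : G)⁻¹ := h2
    calc x * ((s : G)⁻¹ * g) = (s : G)⁻¹ * ((s : G) * x * (s : G)⁻¹) * g := by group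
      _ = (s : G)⁻¹ * (g * x * g⁻¹) * g := by rw [h3]
      _ = (s : G)⁻¹ * g * x := by group
  rw [hc, mem_bot] at h1
  have h2 : g = s := by
    calc g = (s : G) * ((s : G)⁻¹ * g) := by group
      _ = s := by rw [h1, mul_one]
  rw [h2]
  exact s.2

/-- a 2-central involution whose centralizer has a component -/
theorem false_of_dt {G : Type u} [Group G] [Finite G] {S : Sylow 2 G} {Q M Y : Subgroup G} {x : G}
    (h : Tall S Q M Y x) (hd : H235.StdTwo.Dt G) : False := by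
  have hfact : Fact (Nat.Prime 2) := ⟨Nat.prime_two⟩
  obtain ⟨z, L, ⟨hz, P, -, hP⟩, hL, -, -⟩ := hd
  have hP' : (P : Subgroup G) ≤ centralizer ({z} : Set G) := fun x hx => mem_centralizer_singleton_iff.2 (hP x hx)
  obtain ⟨g, hg⟩ := H237.LongKill.exists_conj_cent hP' (S := (S : Subgroup G)) S.isPGroup'
  have hz2 : orderOf (g * z * g⁻¹) = 2 := by
    rw [← hz]
    exact (orderOf_injective (MulAut.conj g).toMonoidHom (MulAut.conj g).injective z)
  have hcomm : ∀ s ∈ (S : Subgroup G), s * (g * z * g⁻¹) = g * z * g⁻¹ * s := fun s hs =>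
    mem_centralizer_singleton_iff.1 (hg hs)
  have hQ := h.zS _ hcomm ⟨1, by rw [pow_one, ← hz2]; exact pow_orderOf_eq_one _⟩
  have h1 : g * z * g⁻¹ ≠ 1 := fun h0 => by
    rw [h0, orderOf_one] at hz2
    omega
  obtain ⟨-, hcp⟩ := h.good _ hQ h1 fun q hq => hcomm q (h.Q_le hq)
  -- the centralizers of `z` and of its conjugate are isomorphic
  have e1 : (centralizer ({g * z * g⁻¹} : Set G)).map (MulAut.conj g⁻¹).toMonoidHom = centralizer ({z} : Set G) := by
    have e2 : g⁻¹ * (g * z * g⁻¹) * g⁻¹⁻¹ = z := by group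
    conv_rhs => rw [← e2]
    have := H235.StdTwo.map_centralizer (MulAut.conj g⁻¹) ({g * z * g⁻¹} : Set G)
    rw [Set.image_singleton] at this
    exact this
  have e3 : ↥(centralizer ({g * z * g⁻¹} : Set G)) ≃* ↥(centralizer ({z} : Set G)) :=
    ((centralizer ({g * z * g⁻¹} : Set G)).equivMapOfInjective _ (MulAut.conj g⁻¹).injective).trans
      (MulEquiv.subgroupCongr e1)
  have hcp' : CP 2 ↥(centralizer ({z} : Set G)) := hcp.of_equiv e3
  have h2 := H239.CharPLocal.cp_iff_genFitting.2 hcp'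
  have h3 : L.subgroupOf (centralizer ({z} : Set G)) ≤ generalizedFittingSubgroup ↥(centralizer ({z} : Set G)) :=
    (SignalizersComponents.Components.component_le_layer hL.2).trans le_sup_left
  rw [h2] at h3
  have h4 : IsPGroup 2 ↥(L.subgroupOf (centralizer ({z} : Set G))) := (Lib.Cores.pCore_isPGroup 2).to_le h3
  have h6 : Group.IsNilpotent ↥(L.subgroupOf (centralizer ({z} : Set G))) := h4.isNilpotent
  exact SignalizersComponents.Components.quasisimple_not_isSolvable hL.2.2 inferInstance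

/-- **No1 of `Fi₂₃`** -/
theorem no1_fi23 : No1.{u} (fun K _ => Spor.IsoFi23 K) := by
  intro G _ _ S Q M Y x K h hK
  have htop := eq_top_of_inner h.nK h.cent (H332.EB.FiTh.inner hK)
  subst htop
  obtain ⟨e⟩ := hK
  exact false_of_dt h.toTall (H235.StdTwo.fi23 ⟨topEquiv.symm.trans e⟩)

end Cfsg.Agent.H30.Tall.FiThree
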